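import Mathlib.RingTheory.Unramified.Finite
import Mathlib.RingTheory.TensorProduct.Basic
import Mathlib.RingTheory.Ideal.Quotient.Operations
import Mathlib.RingTheory.Adjoin.Basic

/-!
# A relation in `B ⊗_A B` for `B` unramified over a one-generated `A`-algebra

If `P = A[T]` (generated by one element) and `B` is formally unramified and essentially of finite type
over `P` then for every `b : B` there are `u c : B ⊗[A] B` with
`u * (b ⊗ 1 - 1 ⊗ b) = c * (T ⊗ 1 - 1 ⊗ T)` and `u ↦ 1` under the multiplication `B ⊗[A] B → B`.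
-/

set_option autoImplicit false

open TensorProduct

namespace Groth.Agent.An.H554.FibAlg

variable {A P B : Type*} [CommRing A] [CommRing P] [CommRing B] [Algebra A P] [Algebra P B]
  [Algebra A B] [IsScalarTower A P B]

theorem exists_rel (T : P) (hT : Algebra.adjoin A {T} = ⊤) [Algebra.FormallyUnramified P B]
    [Algebra.EssFiniteType P B] (b : B) :
    ∃ u c : B ⊗[A] B, u * (b ⊗ₜ[A] 1 - 1 ⊗ₜ[A] b) =
        c * (algebraMap P B T ⊗ₜ[A] 1 - 1 ⊗ₜ[A] algebraMap P B T) ∧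
      Algebra.TensorProduct.lmul' A u = 1 := by
  set τ : B ⊗[A] B := algebraMap P B T ⊗ₜ[A] 1 - 1 ⊗ₜ[A] algebraMap P B T with hτ
  let Q := (B ⊗[A] B) ⧸ Ideal.span {τ}
  let q : B ⊗[A] B →ₐ[A] Q := Ideal.Quotient.mkₐ A (Ideal.span {τ})
  let l : B →ₐ[A] Q := q.comp Algebra.TensorProduct.includeLeft
  let r : B →ₐ[A] Q := q.comp Algebra.TensorProduct.includeRight
  have hlr : l.comp (IsScalarTower.toAlgHom A P B) = r.comp (IsScalarTower.toAlgHom A P B) := by
    refine AlgHom.ext_of_adjoin_eq_top hT ?_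
    rintro _ rfl
    change q _ = q _
    rw [← sub_eq_zero, ← map_sub]
    refine Ideal.Quotient.eq_zero_iff_mem.mpr (Ideal.mem_span_singleton_self _)
  let l' : B →ₐ[P] Q := { (l : B →+* Q) with commutes' := fun p => rfl }
  let r' : B →ₐ[P] Q :=
    { (r : B →+* Q) with
      commutes' := fun p => (DFunLike.congr_fun hlr p).symm }
  let ψ : B ⊗[P] B →ₐ[P] Q := Algebra.TensorProduct.lift l' r' (fun _ _ => Commute.all _ _)
  have hlift : ∀ t : B ⊗[P] B, ∃ u : B ⊗[A] B, q u = ψ t ∧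
      Algebra.TensorProduct.lmul' A u = Algebra.TensorProduct.lmul' P t := by
    intro t
    induction t using TensorProduct.induction_on with
    | zero => exact ⟨0, by simp, by simp⟩
    | tmul x y =>
      refine ⟨x ⊗ₜ y, ?_, by simp⟩
      have h1 : ψ (x ⊗ₜ[P] y) = l' x * r' y := Algebra.TensorProduct.lift_tmul _ _ _ _ _
      rw [h1]
      change q _ = q _ * q _
      rw [← map_mul]
      simp
    | add x y hx hy =>
      obtain ⟨u, hu, hu'⟩ := hx
      obtain ⟨v, hv, hv'⟩ := hy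
      exact ⟨u + v, by rw [map_add, map_add, hu, hv], by rw [map_add, map_add, hu', hv']⟩
  obtain ⟨t, ht, ht1⟩ := (Algebra.FormallyUnramified.iff_exists_tensorProduct (R := P) (S := B)).mp
    inferInstance
  obtain ⟨u, hu, hu1⟩ := hlift t
  have h1 : q (u * (b ⊗ₜ[A] 1 - 1 ⊗ₜ[A] b)) = 0 := by
    have h2 : ψ (t * (1 ⊗ₜ[P] b - b ⊗ₜ[P] 1)) = 0 := by
      rw [mul_comm, ht, map_zero]
    rw [map_mul, map_sub] at h2 ⊢
    have h3 : ψ (1 ⊗ₜ[P] b) = q (1 ⊗ₜ[A] b) := by
      have : ψ (1 ⊗ₜ[P] b) = l' 1 * r' b := Algebra.TensorProduct.lift_tmul _ _ _ _ _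
      rw [this, map_one, one_mul]; rfl
    have h4 : ψ (b ⊗ₜ[P] 1) = q (b ⊗ₜ[A] 1) := by
      have : ψ (b ⊗ₜ[P] 1) = l' b * r' 1 := Algebra.TensorProduct.lift_tmul _ _ _ _ _
      rw [this, map_one, mul_one]; rfl
    rw [h3, h4, ← hu] at h2
    linear_combination -h2
  have h2 : u * (b ⊗ₜ[A] 1 - 1 ⊗ₜ[A] b) ∈ Ideal.span {τ} := Ideal.Quotient.eq_zero_iff_mem.mp h1
  obtain ⟨c, hc⟩ := Ideal.mem_span_singleton'.mp h2
  refine ⟨u, c, hc.symm, ?_⟩
  rw [hu1]
  simpa using ht1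

end Groth.Agent.An.H554.FibAlg
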