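import Groth.Agent.An.H554.LocTriv
import Groth.Agent.An.H554.FibAlg
import Groth.Agent.An.H863.PtsPullback
import Mathlib.RingTheory.RingHom.Etale
import Mathlib.RingTheory.Etale.Basic
import Mathlib.RingTheory.Polynomial.Basic
import Mathlib.Analysis.Normed.Operator.Mul

/-!
# Strict differentiability along fibres in étale coordinates

`fibStrict`: let `f : X ⟶ S` be a morphism over `ℂ` and `g : Γ(S, U)[T] → Γ(X, V)` étale.  Every regular
function `b` near a complex point `x` of `V` has a strict derivative with respect to `T` at `x`, along the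
fibres of `X(ℂ) → S(ℂ)`.
-/

set_option autoImplicit false
open CategoryTheory AlgebraicGeometry Topology TopologicalSpace Opposite Filter Polynomial
open Groth.Agent.An.H863.PtsBasic Groth.Agent.An.H863.PtsCont
open scoped TensorProduct

namespace Groth.Agent.An.H554.FibEv

open Groth.Agent.An.H554.LocTriv

section abstract

variable {A B : Type*} [CommRing A] [CommRing B] [Algebra A B] {Z : Type*} [TopologicalSpace Z]

/-- Elements of `B ⊗[A] B` have continuous evaluation functions on pairs. -/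
lemma exists_evalFun (ev : Z → B → ℂ) (x : Z) (hc : ∀ b, ContinuousAt (fun z => ev z b) x)
    (d : B ⊗[A] B) : ∃ F : Z × Z → ℂ, ContinuousAt F (x, x) ∧
      ∀ (z z' : Z) (Φ : B ⊗[A] B →+* ℂ), (∀ b b', Φ (b ⊗ₜ b') = ev z b * ev z' b') →
        Φ d = F (z, z') := by
  induction d using TensorProduct.induction_on with
  | zero => exact ⟨fun _ => 0, continuousAt_const, fun z z' Φ _ => map_zero Φ⟩
  | tmul b b' =>
    refine ⟨fun p => ev p.1 b * ev p.2 b', ?_, fun z z' Φ h => h b b'⟩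
    have h1 : ContinuousAt (fun p : Z × Z => ev p.1 b) (x, x) :=
      ContinuousAt.comp (g := fun z => ev z b) (f := Prod.fst) (hc b) continuousAt_fst
    have h2 : ContinuousAt (fun p : Z × Z => ev p.2 b') (x, x) :=
      ContinuousAt.comp (g := fun z => ev z b') (f := Prod.snd) (hc b') continuousAt_snd
    exact h1.mul h2
  | add d d' hd hd' =>
    obtain ⟨F, hF, hF'⟩ := hd
    obtain ⟨G, hG, hG'⟩ := hd'
    exact ⟨fun p => F p + G p, hF.add hG, fun z z' Φ h => by
      rw [map_add, hF' z z' Φ h, hG' z z' Φ h]⟩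

/-- Two ring maps which agree on `A` induce a ring map from the tensor product. -/
lemma exists_productMap (φ φ' : B →+* ℂ) (h : φ.comp (algebraMap A B) = φ'.comp (algebraMap A B)) :
    ∃ Φ : B ⊗[A] B →+* ℂ, ∀ b b', Φ (b ⊗ₜ b') = φ b * φ' b' := by
  let _ : Algebra A ℂ := (φ.comp (algebraMap A B)).toAlgebra
  let l : B →ₐ[A] ℂ := { φ with commutes' := fun a => rfl }
  let r : B →ₐ[A] ℂ := { φ' with commutes' := fun a => (RingHom.congr_fun h a).symm }
  exact ⟨(Algebra.TensorProduct.productMap l r).toRingHom, fun b b' =>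
    Algebra.TensorProduct.productMap_apply_tmul l r b b'⟩

end abstract

variable {X S : Scheme.{0}} [X.Over An.SC] [S.Over An.SC]

theorem fibStrict (f : X ⟶ S) [f.IsOver An.SC] (U : S.Opens) (_hU : IsAffineOpen U)
    (V : X.Opens) (hV : IsAffineOpen V) (e : V ≤ f ⁻¹ᵁ U) (g : (Γ(S, U))[X] →+* Γ(X, V)) (hg : g.comp C = (f.appLE U V e).hom)
    (het : g.Etale) (x : An.Pts X) (hx : x.pt ∈ V) (V' : X.Opens) (hx' : x.pt ∈ V')
    (b : Γ(X, V')) :
    ∃ L : ℂ →L[ℝ] ℂ, FibStrict (An.Pts.map f) (fun z => evAt z V (g Polynomial.X))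
      (fun z => evAt z V' b) x L := by
  obtain ⟨h, hh, hxh⟩ := hV.exists_basicOpen_le (V := V') ⟨x.pt, hx'⟩ hx
  change x.pt ∈ X.basicOpen h at hxh
  have hle : X.basicOpen h ≤ V := X.basicOpen_le h
  -- algebra structures
  let _ : Algebra (Γ(S, U))[X] Γ(X, V) := g.toAlgebra
  have hetA : Algebra.Etale (Γ(S, U))[X] Γ(X, V) := het
  let ρ : Γ(X, V) →+* Γ(X, X.basicOpen h) := (X.presheaf.map (homOfLE hle).op).hom
  let _ : Algebra Γ(X, V) Γ(X, X.basicOpen h) := ρ.toAlgebra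
  have hloc : IsLocalization.Away h Γ(X, X.basicOpen h) := hV.isLocalization_basicOpen h
  let _ : Algebra (Γ(S, U))[X] Γ(X, X.basicOpen h) := (ρ.comp g).toAlgebra
  have : IsScalarTower (Γ(S, U))[X] Γ(X, V) Γ(X, X.basicOpen h) :=
    IsScalarTower.of_algebraMap_eq' rfl
  let _ : Algebra Γ(S, U) Γ(X, X.basicOpen h) := ((ρ.comp g).comp C).toAlgebra
  have : IsScalarTower Γ(S, U) (Γ(S, U))[X] Γ(X, X.basicOpen h) :=
    IsScalarTower.of_algebraMap_eq' rfl
  have : Algebra.FormallyUnramified Γ(X, V) Γ(X, X.basicOpen h) :=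
    Algebra.FormallyUnramified.of_isLocalization (Submonoid.powers h)
  have : Algebra.FormallyUnramified (Γ(S, U))[X] Γ(X, X.basicOpen h) :=
    Algebra.FormallyUnramified.comp _ Γ(X, V) _
  have : Algebra.EssFiniteType Γ(X, V) Γ(X, X.basicOpen h) :=
    Algebra.EssFiniteType.of_isLocalization _ (Submonoid.powers h)
  have : Algebra.EssFiniteType (Γ(S, U))[X] Γ(X, X.basicOpen h) :=
    Algebra.EssFiniteType.comp _ Γ(X, V) _
  obtain ⟨u, c, huc, hu1⟩ := FibAlg.exists_rel (A := Γ(S, U)) (Polynomial.X : (Γ(S, U))[X])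
    Polynomial.adjoin_X ((X.presheaf.map (homOfLE hh).op).hom b : Γ(X, X.basicOpen h))
  set b' : Γ(X, X.basicOpen h) := (X.presheaf.map (homOfLE hh).op).hom b with hb'
  have hev : ∀ d : Γ(X, X.basicOpen h), ContinuousAt (fun z => evAt z (X.basicOpen h) d) x :=
    fun d => continuousAt_evAt _ d hxh
  obtain ⟨Fu, hFu, hFu'⟩ := exists_evalFun (A := Γ(S, U)) (fun z => evAt z (X.basicOpen h)) x hev u
  obtain ⟨Fc, hFc, hFc'⟩ := exists_evalFun (A := Γ(S, U)) (fun z => evAt z (X.basicOpen h)) x hev c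
  -- ring maps on pairs
  have hΦ : ∀ z z' : An.Pts X, z.pt ∈ X.basicOpen h → z'.pt ∈ X.basicOpen h →
      An.Pts.map f z = An.Pts.map f z' → ∃ Φ : Γ(X, X.basicOpen h) ⊗[Γ(S, U)] Γ(X, X.basicOpen h) →+* ℂ,
        ∀ d d', Φ (d ⊗ₜ d') = evAt z (X.basicOpen h) d * evAt z' (X.basicOpen h) d' := by
    intro z z' hz hz' hzz
    obtain ⟨Φ, hΦ⟩ := exists_productMap (A := Γ(S, U)) (evHom z _ hz) (evHom z' _ hz') (by
      ext a
      change evHom z _ hz (ρ (g (C a))) = evHom z' _ hz' (ρ (g (C a)))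
      have h1 : g (C a) = (f.appLE U V e) a := RingHom.congr_fun hg a
      rw [h1]
      change z.ev _ hz (X.presheaf.map (homOfLE hle).op (f.appLE U V e a)) =
        z'.ev _ hz' (X.presheaf.map (homOfLE hle).op (f.appLE U V e a))
      rw [ev_res z hle hz, ev_res z' hle hz', ← evAt_of_mem (hle hz), ← evAt_of_mem (hle hz'),
        Groth.Agent.An.H863.PtsPullback.evAt_appLE f z U V e (hle hz),
        Groth.Agent.An.H863.PtsPullback.evAt_appLE f z' U V e (hle hz'), hzz])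
    refine ⟨Φ, fun d d' => ?_⟩
    rw [hΦ, evAt_of_mem hz, evAt_of_mem hz']
    rfl
  -- value of `u` on the diagonal
  have hux : Fu (x, x) = 1 := by
    have h1 := hFu' x x ((evHom x _ hxh).comp
      (Algebra.TensorProduct.lmul' (Γ(S, U)) (S := Γ(X, X.basicOpen h))).toRingHom) (fun d d' => by
        rw [evAt_of_mem hxh, evAt_of_mem hxh]
        change evHom x _ hxh (Algebra.TensorProduct.lmul' (Γ(S, U)) (d ⊗ₜ d')) = _
        rw [Algebra.TensorProduct.lmul'_apply_tmul, map_mul]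
        rfl)
    rw [← h1]
    change evHom x _ hxh (Algebra.TensorProduct.lmul' (Γ(S, U)) u) = 1
    rw [hu1, map_one]
  have hT : ∀ z : An.Pts X, z.pt ∈ X.basicOpen h →
      evAt z (X.basicOpen h) (algebraMap (Γ(S, U))[X] Γ(X, X.basicOpen h) Polynomial.X) =
        evAt z V (g Polynomial.X) := by
    intro z hz
    rw [evAt_of_mem hz, evAt_of_mem (hle hz)]
    exact ev_res z hle hz (g Polynomial.X)
  have hB : ∀ z : An.Pts X, z.pt ∈ X.basicOpen h →
      evAt z (X.basicOpen h) b' = evAt z V' b := by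
    intro z hz
    rw [evAt_of_mem hz, evAt_of_mem (hh hz)]
    exact ev_res z hh hz b
  have hq : ContinuousAt (fun p => Fc p / Fu p) (x, x) :=
    hFc.div hFu (by rw [hux]; exact one_ne_zero)
  refine ⟨ContinuousLinearMap.mul ℝ ℂ (Fc (x, x) / Fu (x, x)), fun ε hε => ?_⟩
  have e1 : ∀ᶠ p : An.Pts X × An.Pts X in 𝓝 (x, x),
      ‖Fc p / Fu p - Fc (x, x) / Fu (x, x)‖ < ε := by
    have h1 := (hq.sub (continuousAt_const (y := Fc (x, x) / Fu (x, x)))).norm
    have h2 : ‖Fc (x, x) / Fu (x, x) - Fc (x, x) / Fu (x, x)‖ < ε := by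
      rw [sub_self, norm_zero]
      exact hε
    exact h1.eventually (gt_mem_nhds h2)
  have e2 : ∀ᶠ p : An.Pts X × An.Pts X in 𝓝 (x, x), Fu p ≠ 0 :=
    hFu.eventually_ne (by rw [hux]; exact one_ne_zero)
  have hW : ∀ᶠ z in 𝓝 x, z.pt ∈ X.basicOpen h :=
    (An.Pts.isOpen_preimage_pt (X.basicOpen h)).mem_nhds hxh
  have e3 : ∀ᶠ p : An.Pts X × An.Pts X in 𝓝 (x, x), p.1.pt ∈ X.basicOpen h :=
    (continuous_fst.tendsto (x, x)).eventually hW
  have e4 : ∀ᶠ p : An.Pts X × An.Pts X in 𝓝 (x, x), p.2.pt ∈ X.basicOpen h :=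
    (continuous_snd.tendsto (x, x)).eventually hW
  filter_upwards [e1, e2, e3, e4] with p h1 h2 h3 h4 hp
  obtain ⟨Φ, hΦ'⟩ := hΦ p.1 p.2 h3 h4 hp
  have h5 := congrArg Φ huc
  simp only [map_mul, map_sub, hΦ'] at h5
  rw [hFu' p.1 p.2 Φ hΦ', hFc' p.1 p.2 Φ hΦ', hB _ h3, hB _ h4, hT _ h3, hT _ h4] at h5
  have hone : ∀ z : An.Pts X, z.pt ∈ X.basicOpen h →
      evAt z (X.basicOpen h) (1 : Γ(X, X.basicOpen h)) = 1 := fun z hz => by
    rw [evAt_of_mem hz, ev_one]
  rw [hone _ h3, hone _ h4, mul_one, one_mul, mul_one, one_mul] at h5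
  have h6 : evAt p.1 V' b - evAt p.2 V' b =
      Fc p / Fu p * (evAt p.1 V (g Polynomial.X) - evAt p.2 V (g Polynomial.X)) := by
    field_simp
    linear_combination h5
  change ‖evAt p.1 V' b - evAt p.2 V' b - (Fc (x, x) / Fu (x, x)) *
    (evAt p.1 V (g Polynomial.X) - evAt p.2 V (g Polynomial.X))‖ ≤ _
  rw [h6, ← sub_mul, norm_mul]
  gcongr

end Groth.Agent.An.H554.FibEv
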