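import Mathlib.Topology.OpenPartialHomeomorph.Basic
import Mathlib.Topology.OpenPartialHomeomorph.Continuity
import Mathlib.Analysis.Calculus.InverseFunctionTheorem.ApproximatesLinearOn
import Mathlib.Analysis.Normed.Module.RCLike.Real
import Mathlib.Topology.Maps.Proper.Basic

/-!
# Local triviality of proper maps with fibrewise Lipschitz charts

Let `π : E → B` be continuous, closed, with compact fibre over `b₀`, and let `𝒞` be a set of open partial
homeomorphisms `E → B × V` over `B` covering the fibre over `b₀`, whose transition maps are strictly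
differentiable in the fibre direction at the points of the fibre over `b₀`.  Then `π` is a trivial
fibration near `b₀` (`exists_trivialization`).  A closed subset `Y` given by the vanishing of the fibre
coordinate in the charts meeting it can be preserved.
-/

set_option autoImplicit false

open Filter Topology Set Metric

namespace Groth.Agent.An.H554.LocTriv

variable {E B V : Type*} [TopologicalSpace E] [NormedAddCommGroup V] [NormedSpace ℝ V]

/-- `g` has the strict derivative `L` with respect to `f` at `e`, in the direction of the fibres of `π`. -/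
def FibStrict (π : E → B) (f g : E → V) (e : E) (L : V →L[ℝ] V) : Prop :=
  ∀ ε > (0 : ℝ), ∀ᶠ p : E × E in 𝓝 (e, e), π p.1 = π p.2 →
    ‖g p.1 - g p.2 - L (f p.1 - f p.2)‖ ≤ ε * ‖f p.1 - f p.2‖

lemma FibStrict.congr {π : E → B} {f g f' g' : E → V} {e : E} {L : V →L[ℝ] V}
    (h : FibStrict π f g e L) (hf : ∀ᶠ x in 𝓝 e, f x = f' x) (hg : ∀ᶠ x in 𝓝 e, g x = g' x) :
    FibStrict π f' g' e L := by
  intro ε hε
  have h1 : ∀ᶠ p : E × E in 𝓝 (e, e), f p.1 = f' p.1 ∧ g p.1 = g' p.1 :=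
    (continuous_fst.tendsto (e, e)).eventually (hf.and hg)
  have h2 : ∀ᶠ p : E × E in 𝓝 (e, e), f p.2 = f' p.2 ∧ g p.2 = g' p.2 :=
    (continuous_snd.tendsto (e, e)).eventually (hf.and hg)
  filter_upwards [h ε hε, h1, h2] with p hp h1 h2 hπ
  have := hp hπ
  rwa [h1.1, h1.2, h2.1, h2.2] at this

/-- A fibrewise strict derivative gives a fibrewise Lipschitz bound. -/
lemma FibStrict.lip {π : E → B} {f g : E → V} {e : E} {L : V →L[ℝ] V}
    (h : FibStrict π f g e L) :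
    ∀ᶠ p : E × E in 𝓝 (e, e), π p.1 = π p.2 →
      ‖g p.1 - g p.2‖ ≤ (‖L‖ + 1) * ‖f p.1 - f p.2‖ := by
  filter_upwards [h 1 one_pos] with p hp hπ
  have h1 := hp hπ
  have h2 : ‖g p.1 - g p.2‖ ≤ ‖g p.1 - g p.2 - L (f p.1 - f p.2)‖ + ‖L (f p.1 - f p.2)‖ := by
    calc ‖g p.1 - g p.2‖ = ‖(g p.1 - g p.2 - L (f p.1 - f p.2)) + L (f p.1 - f p.2)‖ := by
          congr 1; abel
      _ ≤ _ := norm_add_le _ _
  have h3 := L.le_opNorm (f p.1 - f p.2)
  nlinarith

/-- Change of coordinates for the condition "identity plus small" on a self-map `r`. -/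
lemma FibStrict.change {π : E → B} {b₀ : B} {f g : E → V} {r : E → E} {e : E} {L L' : V →L[ℝ] V}
    (hfg : FibStrict π f g e L) (hgf : FibStrict π g f e L')
    (hr : ContinuousAt r e) (hre : r e = e) (hrπ : ∀ᶠ x in 𝓝 e, π (r x) = b₀)
    (h : FibStrict π f (fun x => f (r x)) e (ContinuousLinearMap.id ℝ V)) :
    FibStrict π g (fun x => g (r x)) e (ContinuousLinearMap.id ℝ V) := by
  intro ε hε
  set C : ℝ := ‖L‖ + 3 with hC
  have hCpos : 0 < C := by positivity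
  set C' : ℝ := ‖L'‖ + 1 with hC'
  have hC'pos : 0 < C' := by positivity
  obtain ⟨δ, hδ0, hδ1, hδ⟩ : ∃ δ : ℝ, 0 < δ ∧ δ ≤ 1 ∧ δ * C * C' ≤ ε := by
    refine ⟨min 1 (ε / (C * C')), by positivity, min_le_left _ _, ?_⟩
    have : min 1 (ε / (C * C')) ≤ ε / (C * C') := min_le_right _ _
    calc min 1 (ε / (C * C')) * C * C' = min 1 (ε / (C * C')) * (C * C') := by ring
      _ ≤ ε / (C * C') * (C * C') := by gcongr
      _ = ε := by field_simp
  have hrr : Tendsto (fun p : E × E => (r p.1, r p.2)) (𝓝 (e, e)) (𝓝 (e, e)) := by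
    have h1 : Tendsto (fun p : E × E => r p.1) (𝓝 (e, e)) (𝓝 e) := by
      have := hr.tendsto
      rw [hre] at this
      exact this.comp (continuous_fst.tendsto (e, e))
    have h2 : Tendsto (fun p : E × E => r p.2) (𝓝 (e, e)) (𝓝 e) := by
      have := hr.tendsto
      rw [hre] at this
      exact this.comp (continuous_snd.tendsto (e, e))
    exact h1.prodMk_nhds h2
  have hb : ∀ᶠ p : E × E in 𝓝 (e, e), π (r p.1) = b₀ ∧ π (r p.2) = b₀ :=
    ((continuous_fst.tendsto (e, e)).eventually hrπ).and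
      ((continuous_snd.tendsto (e, e)).eventually hrπ)
  filter_upwards [h δ hδ0, hfg δ hδ0, hrr.eventually (hfg δ hδ0), hb, hgf.lip] with p h1 h2 h3 h4 h5 hπ
  have h1 := h1 hπ
  have h2 := h2 hπ
  have h3 := h3 (h4.1.trans h4.2.symm)
  have h5 := h5 hπ
  simp only [ContinuousLinearMap.id_apply] at h1 ⊢
  set a := f p.1 - f p.2 with ha
  set a' := f (r p.1) - f (r p.2) with ha'
  have h6 : ‖a'‖ ≤ 2 * ‖a‖ := by
    calc ‖a'‖ = ‖(a' - a) + a‖ := by congr 1; abel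
      _ ≤ ‖a' - a‖ + ‖a‖ := norm_add_le _ _
      _ ≤ δ * ‖a‖ + ‖a‖ := by gcongr
      _ ≤ 1 * ‖a‖ + ‖a‖ := by gcongr
      _ = 2 * ‖a‖ := by ring
  have key : g (r p.1) - g (r p.2) - (g p.1 - g p.2) =
      (g (r p.1) - g (r p.2) - L a') - (g p.1 - g p.2 - L a) + L (a' - a) := by
    have : L (a' - a) = L a' - L a := map_sub L a' a
    rw [this]; abel
  calc ‖g (r p.1) - g (r p.2) - (g p.1 - g p.2)‖
      = ‖(g (r p.1) - g (r p.2) - L a') - (g p.1 - g p.2 - L a) + L (a' - a)‖ := by rw [key]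
    _ ≤ ‖(g (r p.1) - g (r p.2) - L a') - (g p.1 - g p.2 - L a)‖ + ‖L (a' - a)‖ := norm_add_le _ _
    _ ≤ (‖g (r p.1) - g (r p.2) - L a'‖ + ‖g p.1 - g p.2 - L a‖) + ‖L‖ * ‖a' - a‖ := by
        gcongr
        · exact norm_sub_le _ _
        · exact L.le_opNorm _
    _ ≤ (δ * (2 * ‖a‖) + δ * ‖a‖) + ‖L‖ * (δ * ‖a‖) := by
        gcongr
        exact h3.trans (by gcongr)
    _ = δ * C * ‖a‖ := by rw [hC]; ring
    _ ≤ δ * C * (C' * ‖g p.1 - g p.2‖) := by gcongr
    _ = δ * C * C' * ‖g p.1 - g p.2‖ := by ring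
    _ ≤ ε * ‖g p.1 - g p.2‖ := by gcongr

variable [TopologicalSpace B]

/-- Hypotheses on a family of charts over `B` around the fibre over `b₀`. -/
structure Atlas (π : E → B) (b₀ : B) (Y : Set E) (𝒞 : Set (OpenPartialHomeomorph E (B × V))) : Prop where
  fst : ∀ φ ∈ 𝒞, ∀ x ∈ φ.source, (φ x).1 = π x
  cover : ∀ e, π e = b₀ → ∃ φ ∈ 𝒞, e ∈ φ.source
  Ysub : ∀ φ ∈ 𝒞, (∀ x ∈ φ.source, x ∉ Y) ∨ (∀ x ∈ φ.source, x ∈ Y ↔ (φ x).2 = 0)
  trans : ∀ φ ∈ 𝒞, ∀ ψ ∈ 𝒞, ∀ e, π e = b₀ → e ∈ φ.source → e ∈ ψ.source →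
    ∃ L : V →L[ℝ] V, FibStrict π (fun x => (φ x).2) (fun x => (ψ x).2) e L

/-- A self-map of `E` which near `e` is a retraction to the fibre over `b₀`, equal to the identity up to a
small fibrewise Lipschitz error. -/
structure Good (π : E → B) (b₀ : B) (Y : Set E) (𝒞 : Set (OpenPartialHomeomorph E (B × V)))
    (r : E → E) (e : E) : Prop where
  fib : ∀ᶠ x in 𝓝 e, π (r x) = b₀
  cont : ∀ᶠ x in 𝓝 e, ContinuousAt r x
  id : ∀ᶠ x in 𝓝 e, π x = b₀ → r x = x
  strict : ∀ φ ∈ 𝒞, e ∈ φ.source →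
    FibStrict π (fun x => (φ x).2) (fun x => (φ (r x)).2) e (ContinuousLinearMap.id ℝ V)
  sub : ∀ᶠ x in 𝓝 e, x ∈ Y → r x ∈ Y

section

variable {π : E → B} {b₀ : B} {Y : Set E} {𝒞 : Set (OpenPartialHomeomorph E (B × V))}

lemma Good.congr {r r' : E → E} {e : E} (h : Good π b₀ Y 𝒞 r e) (hr : ∀ᶠ x in 𝓝 e, r x = r' x) :
    Good π b₀ Y 𝒞 r' e where
  fib := by filter_upwards [h.fib, hr] with x h1 h2; rwa [← h2]
  cont := by
    filter_upwards [h.cont, hr.eventually_nhds] with x h1 h2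
    exact h1.congr h2
  id := by filter_upwards [h.id, hr] with x h1 h2 h3; rw [← h2]; exact h1 h3
  strict := fun φ hφ he => (h.strict φ hφ he).congr (Eventually.of_forall fun _ => rfl) (by
    filter_upwards [hr] with x h1; rw [h1])
  sub := by filter_upwards [h.sub, hr] with x h1 h2 h3; rw [← h2]; exact h1 h3

lemma Good.eq {r : E → E} {e : E} (h : Good π b₀ Y 𝒞 r e) (he : π e = b₀) : r e = e :=
  h.id.self_of_nhds he

/-- The strict condition needs to be checked in one chart only. -/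
lemma good_of_chart (hA : Atlas π b₀ Y 𝒞) {r : E → E} {e : E} (he : π e = b₀)
    (hfib : ∀ᶠ x in 𝓝 e, π (r x) = b₀) (hcont : ∀ᶠ x in 𝓝 e, ContinuousAt r x)
    (hid : ∀ᶠ x in 𝓝 e, π x = b₀ → r x = x) (hsub : ∀ᶠ x in 𝓝 e, x ∈ Y → r x ∈ Y)
    {φ : OpenPartialHomeomorph E (B × V)} (hφ : φ ∈ 𝒞) (heφ : e ∈ φ.source)
    (hst : FibStrict π (fun x => (φ x).2) (fun x => (φ (r x)).2) e (ContinuousLinearMap.id ℝ V)) :
    Good π b₀ Y 𝒞 r e where
  fib := hfib
  cont := hcont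
  id := hid
  strict := fun ψ hψ heψ => by
    obtain ⟨L, hL⟩ := hA.trans φ hφ ψ hψ e he heφ heψ
    obtain ⟨L', hL'⟩ := hA.trans ψ hψ φ hφ e he heψ heφ
    exact FibStrict.change (f := fun x => (φ x).2) (g := fun x => (ψ x).2) hL hL'
      hcont.self_of_nhds (hid.self_of_nhds he) hfib hst
  sub := hsub

/-- The retraction in a chart is good. -/
lemma good_chart (hA : Atlas π b₀ Y 𝒞) {φ : OpenPartialHomeomorph E (B × V)} (hφ : φ ∈ 𝒞)
    {e : E} (he : π e = b₀) (heφ : e ∈ φ.source) :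
    Good π b₀ Y 𝒞 (fun x => φ.symm (b₀, (φ x).2)) e := by
  have hφe : φ e = (b₀, (φ e).2) := by
    rw [← he, ← hA.fst φ hφ e heφ]
  have hsrc : ∀ᶠ x in 𝓝 e, x ∈ φ.source := φ.open_source.mem_nhds heφ
  -- the function `x ↦ (b₀, (φ x).2)` is continuous near `e`
  have hc : ∀ x ∈ φ.source, ContinuousAt (fun x => ((b₀, (φ x).2) : B × V)) x := fun x hx =>
    continuousAt_const.prodMk ((φ.continuousAt hx).snd)
  have htgt : ∀ᶠ x in 𝓝 e, ((b₀, (φ x).2) : B × V) ∈ φ.target := by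
    have h1 : ((b₀, (φ e).2) : B × V) ∈ φ.target := hφe ▸ φ.map_source heφ
    exact (hc e heφ).eventually (φ.open_target.mem_nhds h1)
  have hfib : ∀ᶠ x in 𝓝 e, π (φ.symm (b₀, (φ x).2)) = b₀ := by
    filter_upwards [htgt] with x hx
    rw [← hA.fst φ hφ _ (φ.map_target hx), φ.right_inv hx]
  have hcoord : ∀ᶠ x in 𝓝 e, (φ (φ.symm (b₀, (φ x).2))).2 = (φ x).2 := by
    filter_upwards [htgt] with x hx
    rw [φ.right_inv hx]
  refine good_of_chart hA he hfib ?_ ?_ ?_ hφ heφ ?_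
  · filter_upwards [htgt, hsrc] with x hx hx'
    exact ContinuousAt.comp (g := φ.symm) (φ.continuousAt_symm hx) (hc x hx')
  · filter_upwards [hsrc] with x hx hπ
    rw [← hπ, ← hA.fst φ hφ x hx]
    exact φ.left_inv hx
  · filter_upwards [htgt, hsrc] with x hx hx' hY
    rcases hA.Ysub φ hφ with h | h
    · exact absurd hY (h x hx')
    · rw [h _ (φ.map_target hx), φ.right_inv hx]
      exact (h x hx').mp hY
  · intro ε hε
    have h1 := (continuous_fst.tendsto (e, e)).eventually hcoord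
    have h2 := (continuous_snd.tendsto (e, e)).eventually hcoord
    filter_upwards [h1, h2] with p h1 h2 _
    rw [h1, h2]
    simp only [ContinuousLinearMap.id_apply, sub_self, norm_zero]
    positivity

/-- Points of the fibre outside a compact chart ball have neighbourhoods missing the chart ball. -/
lemma eventually_notMem_ball [T2Space E] [ProperSpace V] (hA : Atlas π b₀ Y 𝒞) (hπ : Continuous π)
    {φ : OpenPartialHomeomorph E (B × V)} (hφ : φ ∈ 𝒞) {v₀ : V} {R : ℝ}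
    (hball : ∀ v, ‖v - v₀‖ ≤ R → (b₀, v) ∈ φ.target) {e : E} (he : π e = b₀)
    (hne : ¬ (e ∈ φ.source ∧ ‖(φ e).2 - v₀‖ ≤ R)) :
    ∀ᶠ x in 𝓝 e, ¬ (x ∈ φ.source ∧ ‖(φ x).2 - v₀‖ ≤ R) := by
  set K : Set (B × V) := {b₀} ×ˢ closedBall v₀ R with hK
  have hKc : IsCompact K := isCompact_singleton.prod (isCompact_closedBall v₀ R)
  have hKt : K ⊆ φ.target := by
    rintro ⟨b, v⟩ ⟨hb, hv⟩
    simp only [mem_singleton_iff] at hb
    subst hb
    exact hball v (by simpa [dist_eq_norm] using hv)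
  have hD : IsCompact (φ.symm '' K) := hKc.image_of_continuousOn (φ.continuousOn_symm.mono hKt)
  have heD : e ∉ φ.symm '' K := by
    rintro ⟨⟨b, v⟩, hbv, rfl⟩
    apply hne
    have hbv' := hKt hbv
    refine ⟨φ.map_target hbv', ?_⟩
    rw [φ.right_inv hbv']
    simpa [dist_eq_norm] using hbv.2
  obtain ⟨G, O, hG, hO, hDG, heO, hGO⟩ := SeparatedNhds.of_isCompact_isCompact hD
    (isCompact_singleton (x := e)) (by simpa using heD)
  have hW : IsOpen (φ.target ∩ φ.symm ⁻¹' G) := φ.symm.isOpen_inter_preimage hG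
  obtain ⟨u, w, hu, hw, hbu, hbw, huw⟩ := generalized_tube_lemma
    (isCompact_singleton (x := b₀)) (isCompact_closedBall v₀ R) hW
    (fun x hx => ⟨hKt hx, hDG ⟨x, hx, rfl⟩⟩)
  have h1 : ∀ᶠ x in 𝓝 e, x ∈ O := hO.mem_nhds (heO rfl)
  have h2 : ∀ᶠ x in 𝓝 e, π x ∈ u :=
    hπ.continuousAt.eventually (hu.mem_nhds (by rw [he]; exact hbu rfl))
  filter_upwards [h1, h2] with x hxO hxu hx
  have h3 : φ x ∈ u ×ˢ w := ⟨by rw [hA.fst φ hφ x hx.1]; exact hxu,
    hbw (by simpa [dist_eq_norm] using hx.2)⟩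
  have h4 := (huw h3).2
  rw [mem_preimage, φ.left_inv hx.1] at h4
  exact hGO.le_bot ⟨h4, hxO⟩

/-- A Lipschitz cut-off function. -/
noncomputable def chi (v₀ : V) (R : ℝ) (v : V) : ℝ := max 0 (min 1 (2 - ‖v - v₀‖ / R))

omit [NormedSpace ℝ V] in
lemma chi_nonneg (v₀ : V) (R : ℝ) (v : V) : 0 ≤ chi v₀ R v := le_max_left _ _

omit [NormedSpace ℝ V] in
lemma chi_le_one (v₀ : V) (R : ℝ) (v : V) : chi v₀ R v ≤ 1 :=
  max_le zero_le_one (min_le_left _ _)

omit [NormedSpace ℝ V] in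
lemma chi_eq_one {v₀ : V} {R : ℝ} (hR : 0 < R) {v : V} (h : ‖v - v₀‖ ≤ R) : chi v₀ R v = 1 := by
  have : ‖v - v₀‖ / R ≤ 1 := (div_le_one hR).mpr h
  rw [chi, min_eq_left (by linarith), max_eq_right zero_le_one]

omit [NormedSpace ℝ V] in
lemma chi_eq_zero {v₀ : V} {R : ℝ} (hR : 0 < R) {v : V} (h : 2 * R ≤ ‖v - v₀‖) : chi v₀ R v = 0 := by
  have : 2 ≤ ‖v - v₀‖ / R := (le_div_iff₀ hR).mpr h
  rw [chi]
  exact max_eq_left ((min_le_right _ _).trans (by linarith))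

omit [NormedSpace ℝ V] in
lemma chi_lip {v₀ : V} {R : ℝ} (hR : 0 < R) (v v' : V) :
    |chi v₀ R v - chi v₀ R v'| ≤ ‖v - v'‖ / R := by
  have h1 : |chi v₀ R v - chi v₀ R v'| ≤
      |min 1 (2 - ‖v - v₀‖ / R) - min 1 (2 - ‖v' - v₀‖ / R)| := by
    have := abs_max_sub_max_le_max (0 : ℝ) (min 1 (2 - ‖v - v₀‖ / R)) 0 (min 1 (2 - ‖v' - v₀‖ / R))
    simpa [chi] using this
  have h2 : |min 1 (2 - ‖v - v₀‖ / R) - min 1 (2 - ‖v' - v₀‖ / R)| ≤
      |(2 - ‖v - v₀‖ / R) - (2 - ‖v' - v₀‖ / R)| := by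
    have := abs_min_sub_min_le_max (1 : ℝ) (2 - ‖v - v₀‖ / R) 1 (2 - ‖v' - v₀‖ / R)
    simpa using this
  refine h1.trans (h2.trans ?_)
  have h3 : (2 - ‖v - v₀‖ / R) - (2 - ‖v' - v₀‖ / R) = (‖v' - v₀‖ - ‖v - v₀‖) / R := by ring
  rw [h3, abs_div, abs_of_pos hR]
  gcongr
  rw [abs_sub_comm]
  refine (abs_norm_sub_norm_le _ _).trans (le_of_eq ?_)
  congr 1
  abel

omit [NormedSpace ℝ V] in
lemma continuous_chi (v₀ : V) (R : ℝ) : Continuous (chi v₀ R) := by
  unfold chi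
  fun_prop

/-- Blend of `r` with the retraction of the chart `φ`. -/
noncomputable def blend (φ : OpenPartialHomeomorph E (B × V)) (b₀ : B) (v₀ : V) (R : ℝ) (r : E → E)
    (x : E) : E :=
  φ.symm (b₀, (φ x).2 + (1 - chi v₀ R (φ x).2) • ((φ (r x)).2 - (φ x).2))

/-- The blend of a good map with the retraction of a chart is good. -/
lemma good_blend (hA : Atlas π b₀ Y 𝒞) {φ : OpenPartialHomeomorph E (B × V)} (hφ : φ ∈ 𝒞)
    {e : E} (he : π e = b₀) (heφ : e ∈ φ.source) (v₀ : V) {R : ℝ} (hR : 0 < R) {r : E → E}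
    (hr : Good π b₀ Y 𝒞 r e) : Good π b₀ Y 𝒞 (blend φ b₀ v₀ R r) e := by
  have hre : r e = e := hr.eq he
  have hφe : φ e = (b₀, (φ e).2) := by
    rw [← he, ← hA.fst φ hφ e heφ]
  have hsrc : ∀ᶠ x in 𝓝 e, x ∈ φ.source := φ.open_source.mem_nhds heφ
  have hrc : ContinuousAt r e := hr.cont.self_of_nhds
  have hrsrc : ∀ᶠ x in 𝓝 e, r x ∈ φ.source := by
    have := hrc.tendsto
    rw [hre] at this
    exact this.eventually hsrc
  -- the new coordinate
  let c : E → V := fun x => (φ x).2 + (1 - chi v₀ R (φ x).2) • ((φ (r x)).2 - (φ x).2)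
  have hcc : ∀ x ∈ φ.source, r x ∈ φ.source → ContinuousAt r x → ContinuousAt c x := by
    intro x hx hrx hrcx
    have h1 : ContinuousAt (fun x => (φ x).2) x := (φ.continuousAt hx).snd
    have h2 : ContinuousAt (fun x => (φ (r x)).2) x :=
      (ContinuousAt.comp (g := φ) (φ.continuousAt hrx) hrcx).snd
    have h3 : ContinuousAt (fun x => chi v₀ R (φ x).2) x :=
      ContinuousAt.comp (g := chi v₀ R) (continuous_chi v₀ R).continuousAt h1
    exact h1.add ((continuousAt_const.sub h3).smul (h2.sub h1))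
  have hce : c e = (φ e).2 := by simp [c, hre]
  have hc : ∀ᶠ x in 𝓝 e, ContinuousAt c x := by
    filter_upwards [hsrc, hrsrc, hr.cont] with x h1 h2 h3 using hcc x h1 h2 h3
  have hpair : ∀ x, ContinuousAt c x → ContinuousAt (fun x => ((b₀, c x) : B × V)) x :=
    fun x hx => continuousAt_const.prodMk hx
  have htgt : ∀ᶠ x in 𝓝 e, ((b₀, c x) : B × V) ∈ φ.target := by
    have h1 : ((b₀, c e) : B × V) ∈ φ.target := by rw [hce]; exact hφe ▸ φ.map_source heφ
    exact (hpair e hc.self_of_nhds).eventually (φ.open_target.mem_nhds h1)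
  have hcoord : ∀ᶠ x in 𝓝 e, (φ (blend φ b₀ v₀ R r x)).2 = c x := by
    filter_upwards [htgt] with x hx
    change (φ (φ.symm (b₀, c x))).2 = c x
    rw [φ.right_inv hx]
  refine good_of_chart hA he ?_ ?_ ?_ ?_ hφ heφ ?_
  · filter_upwards [htgt] with x hx
    change π (φ.symm (b₀, c x)) = b₀
    rw [← hA.fst φ hφ _ (φ.map_target hx), φ.right_inv hx]
  · filter_upwards [htgt, hc] with x hx hx'
    exact ContinuousAt.comp (g := φ.symm) (φ.continuousAt_symm hx) (hpair x hx')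
  · filter_upwards [hsrc, hr.id] with x hx hid hπ
    change φ.symm (b₀, c x) = x
    have h1 : c x = (φ x).2 := by simp [c, hid hπ]
    rw [h1, ← hπ, ← hA.fst φ hφ x hx]
    exact φ.left_inv hx
  · filter_upwards [htgt, hsrc, hrsrc, hr.sub] with x hx hx' hx'' hsub hY
    change φ.symm (b₀, c x) ∈ Y
    rcases hA.Ysub φ hφ with h | h
    · exact absurd hY (h x hx')
    · rw [h _ (φ.map_target hx), φ.right_inv hx]
      have h1 : (φ x).2 = 0 := (h x hx').mp hY
      have h2 : (φ (r x)).2 = 0 := (h _ hx'').mp (hsub hY)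
      simp [c, h1, h2]
  · intro ε hε
    -- `u x = (φ (r x)).2 - (φ x).2` is small and has small Lipschitz constant
    let u : E → V := fun x => (φ (r x)).2 - (φ x).2
    have hu : ContinuousAt u e := by
      have h1 : ContinuousAt (fun x => (φ x).2) e := (φ.continuousAt heφ).snd
      have h2 : ContinuousAt (fun x => (φ (r x)).2) e := by
        refine (ContinuousAt.comp (g := φ) ?_ hrc).snd
        rw [hre]
        exact φ.continuousAt heφ
      exact h2.sub h1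
    have hue : u e = 0 := by simp [u, hre]
    have hus : ∀ᶠ x in 𝓝 e, ‖u x‖ ≤ ε / 2 * R := by
      have h1 : Tendsto (fun x => ‖u x‖) (𝓝 e) (𝓝 0) := by
        have := hu.norm.tendsto
        rwa [hue, norm_zero] at this
      exact (h1.eventually (gt_mem_nhds (by positivity : 0 < ε / 2 * R))).mono fun x hx => le_of_lt hx
    have h1 := (continuous_fst.tendsto (e, e)).eventually hcoord
    have h2 := (continuous_snd.tendsto (e, e)).eventually hcoord
    have h3 := (continuous_snd.tendsto (e, e)).eventually hus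
    filter_upwards [h1, h2, h3, hr.strict φ hφ heφ (ε / 2) (by positivity)] with p h1 h2 h3 h4 hπ
    have h4 := h4 hπ
    rw [h1, h2]
    simp only [ContinuousLinearMap.id_apply] at h4 ⊢
    set a := (φ p.1).2 - (φ p.2).2 with ha
    have h4' : ‖u p.1 - u p.2‖ ≤ ε / 2 * ‖a‖ := by
      refine le_trans (le_of_eq ?_) h4
      congr 1
      simp only [u, ha]
      abel
    have key : c p.1 - c p.2 - a =
        (1 - chi v₀ R (φ p.1).2) • (u p.1 - u p.2) +
          (chi v₀ R (φ p.2).2 - chi v₀ R (φ p.1).2) • u p.2 := by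
      simp only [c, ha, u]
      module
    rw [key]
    calc ‖(1 - chi v₀ R (φ p.1).2) • (u p.1 - u p.2) +
          (chi v₀ R (φ p.2).2 - chi v₀ R (φ p.1).2) • u p.2‖
        ≤ ‖(1 - chi v₀ R (φ p.1).2) • (u p.1 - u p.2)‖ +
          ‖(chi v₀ R (φ p.2).2 - chi v₀ R (φ p.1).2) • u p.2‖ := norm_add_le _ _
      _ = |1 - chi v₀ R (φ p.1).2| * ‖u p.1 - u p.2‖ +
          |chi v₀ R (φ p.2).2 - chi v₀ R (φ p.1).2| * ‖u p.2‖ := by
        rw [norm_smul, norm_smul, Real.norm_eq_abs, Real.norm_eq_abs]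
      _ ≤ 1 * (ε / 2 * ‖a‖) + (‖a‖ / R) * (ε / 2 * R) := by
        have hχ0 := chi_nonneg v₀ R (φ p.1).2
        have hχ1 := chi_le_one v₀ R (φ p.1).2
        have hL : |chi v₀ R (φ p.2).2 - chi v₀ R (φ p.1).2| ≤ ‖a‖ / R := by
          rw [abs_sub_comm]
          exact chi_lip hR _ _
        have habs : |1 - chi v₀ R (φ p.1).2| ≤ 1 := by
          rw [abs_le]; constructor <;> linarith
        gcongr
      _ = ε * ‖a‖ := by field_simp; ring

open Classical in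
/-- Modification of `r` by the retraction of a chart inside a chart ball. -/
noncomputable def step (φ : OpenPartialHomeomorph E (B × V)) (b₀ : B) (v₀ : V) (R : ℝ) (r : E → E)
    (x : E) : E :=
  if x ∈ φ.source ∧ ‖(φ x).2 - v₀‖ ≤ 2 * R then blend φ b₀ v₀ R r x else r x

/-- Inside the small ball the modification is good whatever `r` is. -/
lemma good_step_ball (hA : Atlas π b₀ Y 𝒞) {φ : OpenPartialHomeomorph E (B × V)} (hφ : φ ∈ 𝒞)
    {e : E} (he : π e = b₀) (heφ : e ∈ φ.source) {v₀ : V} {R : ℝ} (hR : 0 < R) (r : E → E)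
    (hb : ‖(φ e).2 - v₀‖ < R) : Good π b₀ Y 𝒞 (step φ b₀ v₀ R r) e := by
  refine (good_chart hA hφ he heφ).congr ?_
  have h1 : ContinuousAt (fun x => ‖(φ x).2 - v₀‖) e :=
    (((φ.continuousAt heφ).snd).sub continuousAt_const).norm
  filter_upwards [φ.open_source.mem_nhds heφ, h1.eventually (gt_mem_nhds hb)] with x hx hx'
  have h2 : x ∈ φ.source ∧ ‖(φ x).2 - v₀‖ ≤ 2 * R := ⟨hx, by linarith⟩
  rw [step, if_pos h2, blend, chi_eq_one hR (le_of_lt hx')]
  simp

/-- The modification of a good map is good. -/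
lemma good_step [T2Space E] [ProperSpace V] (hA : Atlas π b₀ Y 𝒞) (hπ : Continuous π)
    {φ : OpenPartialHomeomorph E (B × V)} (hφ : φ ∈ 𝒞) {v₀ : V} {R : ℝ} (hR : 0 < R)
    (hball : ∀ v, ‖v - v₀‖ ≤ 2 * R → (b₀, v) ∈ φ.target) {e : E} (he : π e = b₀) {r : E → E}
    (hr : Good π b₀ Y 𝒞 r e) : Good π b₀ Y 𝒞 (step φ b₀ v₀ R r) e := by
  by_cases hin : e ∈ φ.source ∧ ‖(φ e).2 - v₀‖ ≤ 2 * R
  · have heφ := hin.1
    refine (good_blend hA hφ he heφ v₀ hR hr).congr ?_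
    have hre : r e = e := hr.eq he
    have hrsrc : ∀ᶠ x in 𝓝 e, r x ∈ φ.source := by
      have := hr.cont.self_of_nhds.tendsto
      rw [hre] at this
      exact this.eventually (φ.open_source.mem_nhds heφ)
    filter_upwards [φ.open_source.mem_nhds heφ, hrsrc, hr.fib] with x hx hrx hfib
    by_cases hx' : ‖(φ x).2 - v₀‖ ≤ 2 * R
    · rw [step, if_pos ⟨hx, hx'⟩]
    · rw [step, if_neg (fun h => hx' h.2), blend, chi_eq_zero hR (le_of_lt (not_le.mp hx'))]
      have h1 : ((b₀, (φ x).2 + (1 - (0 : ℝ)) • ((φ (r x)).2 - (φ x).2)) : B × V) = φ (r x) := by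
        have h2 : (φ x).2 + (1 - (0 : ℝ)) • ((φ (r x)).2 - (φ x).2) = (φ (r x)).2 := by
          simp
        rw [h2, ← hfib, ← hA.fst φ hφ _ hrx]
      rw [h1]
      exact φ.left_inv hrx
  · refine hr.congr ?_
    filter_upwards [eventually_notMem_ball hA hπ hφ hball he hin] with x hx
    rw [step, if_neg hx]

/-- There is a globally good retraction. -/
theorem exists_good [T2Space E] [ProperSpace V] (hA : Atlas π b₀ Y 𝒞) (hπ : Continuous π)
    (hc : IsCompact (π ⁻¹' {b₀})) : ∃ r : E → E, ∀ e, π e = b₀ → Good π b₀ Y 𝒞 r e := by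
  classical
  -- choose charts and radii
  have hch : ∀ e : E, e ∈ π ⁻¹' {b₀} → ∃ (φ : OpenPartialHomeomorph E (B × V)) (R : ℝ),
      φ ∈ 𝒞 ∧ e ∈ φ.source ∧ 0 < R ∧ ∀ v, ‖v - (φ e).2‖ ≤ 2 * R → (b₀, v) ∈ φ.target := by
    intro e he
    obtain ⟨φ, hφ, heφ⟩ := hA.cover e he
    have hφe : φ e = (b₀, (φ e).2) := by
      rw [← show π e = b₀ from he, ← hA.fst φ hφ e heφ]
    have h1 : ∀ᶠ v in 𝓝 (φ e).2, ((b₀, v) : B × V) ∈ φ.target := by
      have hcont : Continuous (fun v : V => ((b₀, v) : B × V)) := by fun_prop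
      refine hcont.continuousAt.eventually (φ.open_target.mem_nhds ?_)
      change ((b₀, (φ e).2) : B × V) ∈ φ.target
      rw [← hφe]
      exact φ.map_source heφ
    obtain ⟨ρ, hρ, hball⟩ := Metric.eventually_nhds_iff.mp h1
    refine ⟨φ, ρ / 4, hφ, heφ, by positivity, fun v hv => hball ?_⟩
    rw [dist_eq_norm]
    linarith
  rcases (π ⁻¹' {b₀}).eq_empty_or_nonempty with hemp | ⟨e₁, he₁⟩
  · refine ⟨id, fun e he => ?_⟩
    have : e ∈ π ⁻¹' {b₀} := he
    rw [hemp] at this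
    exact absurd this (notMem_empty e)
  have : Nonempty (OpenPartialHomeomorph E (B × V)) := ⟨(hch e₁ he₁).choose⟩
  choose! φ R hφ hsrc hR hball using hch
  let U : E → Set E := fun e => {x | x ∈ (φ e).source ∧ ‖(φ e x).2 - (φ e e).2‖ < R e}
  obtain ⟨t, ht, htc⟩ := hc.elim_nhds_subcover U (fun e he => by
    have h1 : ContinuousAt (fun x => ‖(φ e x).2 - (φ e e).2‖) e :=
      ((((φ e).continuousAt (hsrc e he)).snd).sub continuousAt_const).norm
    have h2 : ‖(φ e e).2 - (φ e e).2‖ < R e := by simpa using hR e he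
    filter_upwards [(φ e).open_source.mem_nhds (hsrc e he), h1.eventually (gt_mem_nhds h2)] with
      x hx hx'
    exact ⟨hx, hx'⟩)
  have main : ∀ t : Finset E, (∀ x ∈ t, x ∈ π ⁻¹' {b₀}) →
      ∃ r : E → E, ∀ e, π e = b₀ → e ∈ ⋃ x ∈ t, U x → Good π b₀ Y 𝒞 r e := by
    intro t
    induction t using Finset.induction_on with
    | empty => exact fun _ => ⟨id, fun e _ h => by simp at h⟩
    | insert a t hat ih =>
      intro ht
      obtain ⟨r, hr⟩ := ih (fun x hx => ht x (Finset.mem_insert_of_mem hx))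
      have ha := ht a (Finset.mem_insert_self a t)
      refine ⟨step (φ a) b₀ (φ a a).2 (R a) r, fun e he heU => ?_⟩
      simp only [Finset.mem_insert, iUnion_iUnion_eq_or_left, mem_union] at heU
      rcases heU with heU | heU
      · exact good_step_ball hA (hφ a ha) he heU.1 (hR a ha) r heU.2
      · exact good_step hA hπ (hφ a ha) (hR a ha) (hball a ha) he (hr e he heU)
  obtain ⟨r, hr⟩ := main t ht
  exact ⟨r, fun e he => hr e he (htc he)⟩

/-- Fibrewise injectivity near a point of the central fibre. -/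
lemma Good.inj (hA : Atlas π b₀ Y 𝒞) {r : E → E} {e : E} (he : π e = b₀) (h : Good π b₀ Y 𝒞 r e) :
    ∀ᶠ p : E × E in 𝓝 (e, e), π p.1 = π p.2 → r p.1 = r p.2 → p.1 = p.2 := by
  obtain ⟨φ, hφ, heφ⟩ := hA.cover e he
  have hsrc : ∀ᶠ x in 𝓝 e, x ∈ φ.source := φ.open_source.mem_nhds heφ
  filter_upwards [h.strict φ hφ heφ (1 / 2) (by norm_num),
    (continuous_fst.tendsto (e, e)).eventually hsrc,
    (continuous_snd.tendsto (e, e)).eventually hsrc] with p hp h1 h2 hπ hr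
  have hp := hp hπ
  rw [hr] at hp
  simp only [sub_self, ContinuousLinearMap.id_apply, zero_sub, norm_neg] at hp
  have h3 : ‖(φ p.1).2 - (φ p.2).2‖ = 0 := by
    have := norm_nonneg ((φ p.1).2 - (φ p.2).2)
    linarith
  have h4 : (φ p.1).2 = (φ p.2).2 := sub_eq_zero.mp (norm_eq_zero.mp h3)
  have h5 : φ p.1 = φ p.2 := by
    refine Prod.ext ?_ h4
    rw [hA.fst φ hφ _ h1, hA.fst φ hφ _ h2, hπ]
  exact φ.injOn h1 h2 h5

/-- The identity of `V` has a trivial nonlinear right inverse of norm one. -/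
def idInv (V : Type*) [NormedAddCommGroup V] [NormedSpace ℝ V] :
    (ContinuousLinearMap.id ℝ V).NonlinearRightInverse where
  toFun := fun v => v
  nnnorm := 1
  bound' := fun y => by simp
  right_inv' := fun y => rfl

/-- A nice open neighbourhood of a point of the central fibre. -/
lemma Good.exists_nhd (hA : Atlas π b₀ Y 𝒞) {r : E → E} {e : E} (he : π e = b₀)
    (h : Good π b₀ Y 𝒞 r e) :
    ∃ φ ∈ 𝒞, ∃ W : Set E, IsOpen W ∧ e ∈ W ∧
      (∀ x ∈ W, x ∈ φ.source ∧ r x ∈ φ.source ∧ π (r x) = b₀ ∧ ContinuousAt r x) ∧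
      ∀ x ∈ W, ∀ y ∈ W, π x = π y →
        ‖(φ (r x)).2 - (φ (r y)).2 - ((φ x).2 - (φ y).2)‖ ≤ 1 / 2 * ‖(φ x).2 - (φ y).2‖ := by
  obtain ⟨φ, hφ, heφ⟩ := hA.cover e he
  have hre : r e = e := h.eq he
  have hsrc : ∀ᶠ x in 𝓝 e, x ∈ φ.source := φ.open_source.mem_nhds heφ
  have hrsrc : ∀ᶠ x in 𝓝 e, r x ∈ φ.source := by
    have := h.cont.self_of_nhds.tendsto
    rw [hre] at this
    exact this.eventually hsrc
  have h1 := h.strict φ hφ heφ (1 / 2) (by norm_num)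
  rw [nhds_prod_eq] at h1
  obtain ⟨t₁, ht₁, t₂, ht₂, hst⟩ := mem_prod_iff.mp h1
  obtain ⟨W, hWt, hWo, heW⟩ := mem_nhds_iff.mp
    (inter_mem (inter_mem ht₁ ht₂) ((hsrc.and hrsrc).and (h.fib.and h.cont)))
  refine ⟨φ, hφ, W, hWo, heW, fun x hx => ?_, fun x hx y hy hxy => ?_⟩
  · have := (hWt hx).2
    exact ⟨this.1.1, this.1.2, this.2.1, this.2.2⟩
  · exact hst (⟨(hWt hx).1.1, (hWt hy).1.2⟩ : (x, y) ∈ t₁ ×ˢ t₂) hxy

/-- Openness of `(π, r)` near a point of the central fibre. -/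
lemma Good.open_near [ProperSpace V] (hA : Atlas π b₀ Y 𝒞) {r : E → E} {e : E} (he : π e = b₀)
    (h : Good π b₀ Y 𝒞 r e) :
    ∀ᶠ x in 𝓝 e, ∀ O ∈ 𝓝 x, ∀ᶠ q : B × E in 𝓝 (π x, r x), π q.2 = b₀ →
      ∃ y ∈ O, π y = q.1 ∧ r y = q.2 := by
  obtain ⟨φ, hφ, W, hWo, heW, hW1, hW2⟩ := h.exists_nhd hA he
  filter_upwards [hWo.mem_nhds heW] with x hxW O hO
  obtain ⟨hxs, hrxs, hfib, hcont⟩ := hW1 x hxW
  have hφx : φ x = (π x, (φ x).2) := by rw [← hA.fst φ hφ x hxs]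
  -- a product neighbourhood
  have hO' : φ.symm ⁻¹' (O ∩ W) ∩ φ.target ∈ 𝓝 (φ x) := by
    refine inter_mem ?_ (φ.open_target.mem_nhds (φ.map_source hxs))
    have h1 := φ.continuousAt_symm (φ.map_source hxs)
    refine h1 ?_
    rw [φ.left_inv hxs]
    exact inter_mem hO (hWo.mem_nhds hxW)
  rw [hφx, nhds_prod_eq, mem_prod_iff] at hO'
  obtain ⟨N, hN, M, hM, hNM⟩ := hO'
  obtain ⟨δ, hδ, hball⟩ := Metric.nhds_basis_closedBall.mem_iff.mp hM
  -- the coordinate function along fibres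
  let g : B → V → V := fun b v => (φ (r (φ.symm (b, v)))).2
  have hg : ∀ b ∈ N, ApproximatesLinearOn (g b) (ContinuousLinearMap.id ℝ V)
      (closedBall (φ x).2 δ) (1 / 2) := by
    intro b hb v hv v' hv'
    have h1 := hNM (⟨hb, hball hv⟩ : (b, v) ∈ N ×ˢ M)
    have h2 := hNM (⟨hb, hball hv'⟩ : (b, v') ∈ N ×ˢ M)
    have h3 := hW2 _ h1.1.2 _ h2.1.2 (by
      rw [← hA.fst φ hφ _ (φ.map_target h1.2), ← hA.fst φ hφ _ (φ.map_target h2.2),
        φ.right_inv h1.2, φ.right_inv h2.2])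
    rw [φ.right_inv h1.2, φ.right_inv h2.2] at h3
    simpa [g] using h3
  -- continuity of `b ↦ g b (φ x).2`
  have hgc : ContinuousAt (fun b => g b (φ x).2) (π x) := by
    have h1 : ContinuousAt (fun b => ((b, (φ x).2) : B × V)) (π x) :=
      continuousAt_id.prodMk continuousAt_const
    have h2 : ContinuousAt φ.symm (π x, (φ x).2) := by
      rw [← hφx]; exact φ.continuousAt_symm (φ.map_source hxs)
    have h3 : ContinuousAt (fun b => φ.symm (b, (φ x).2)) (π x) :=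
      ContinuousAt.comp (g := φ.symm) h2 h1
    have hx : φ.symm (π x, (φ x).2) = x := by rw [← hφx]; exact φ.left_inv hxs
    have h4 : ContinuousAt r (φ.symm (π x, (φ x).2)) := by rw [hx]; exact hcont
    have h5 : ContinuousAt (fun b => r (φ.symm (b, (φ x).2))) (π x) :=
      ContinuousAt.comp (g := r) h4 h3
    have h6 : ContinuousAt φ (r (φ.symm (π x, (φ x).2))) := by rw [hx]; exact φ.continuousAt hrxs
    exact (ContinuousAt.comp (g := φ) (f := fun b => r (φ.symm (b, (φ x).2))) h6 h5).snd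
  have hgx : g (π x) (φ x).2 = (φ (r x)).2 := by
    change (φ (r (φ.symm (π x, (φ x).2)))).2 = _
    rw [← hφx, φ.left_inv hxs]
  have e1 : ∀ᶠ q : B × E in 𝓝 (π x, r x), q.1 ∈ N :=
    (continuous_fst.tendsto (π x, r x)).eventually hN
  have e2 : ∀ᶠ q : B × E in 𝓝 (π x, r x), ‖g q.1 (φ x).2 - (φ (r x)).2‖ < δ / 4 := by
    have h1 : ContinuousAt (fun q : B × E => g q.1 (φ x).2) (π x, r x) :=
      ContinuousAt.comp (g := fun b => g b (φ x).2) (f := Prod.fst) hgc continuousAt_fst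
    have h2 := (h1.sub (continuousAt_const (y := (φ (r x)).2))).norm
    have h3 : ‖g (π x) (φ x).2 - (φ (r x)).2‖ < δ / 4 := by
      rw [hgx, sub_self, norm_zero]; positivity
    exact h2.eventually (gt_mem_nhds h3)
  have e3 : ∀ᶠ q : B × E in 𝓝 (π x, r x), q.2 ∈ φ.source :=
    (continuous_snd.tendsto (π x, r x)).eventually (φ.open_source.mem_nhds hrxs)
  have e4 : ∀ᶠ q : B × E in 𝓝 (π x, r x), ‖(φ q.2).2 - (φ (r x)).2‖ < δ / 4 := by
    have h1 : ContinuousAt (fun q : B × E => (φ q.2).2) (π x, r x) :=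
      (ContinuousAt.comp (g := φ) (f := Prod.snd) (φ.continuousAt hrxs) continuousAt_snd).snd
    have h2 := (h1.sub (continuousAt_const (y := (φ (r x)).2))).norm
    have h3 : ‖(φ (r x)).2 - (φ (r x)).2‖ < δ / 4 := by
      rw [sub_self, norm_zero]; positivity
    exact h2.eventually (gt_mem_nhds h3)
  filter_upwards [e1, e2, e3, e4] with q h1 h2 h3 h4 hq
  have hs := (hg q.1 h1).surjOn_closedBall_of_nonlinearRightInverse (idInv V) hδ.le
    (Subset.refl _)
  have hmem : (φ q.2).2 ∈ closedBall (g q.1 (φ x).2)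
      ((((idInv V).nnnorm : ℝ)⁻¹ - ((1 / 2 : NNReal) : ℝ)) * δ) := by
    rw [mem_closedBall, dist_eq_norm]
    have h5 : ‖(φ q.2).2 - g q.1 (φ x).2‖ ≤ δ / 4 + δ / 4 := by
      calc ‖(φ q.2).2 - g q.1 (φ x).2‖
          = ‖((φ q.2).2 - (φ (r x)).2) - (g q.1 (φ x).2 - (φ (r x)).2)‖ := by congr 1; abel
        _ ≤ ‖(φ q.2).2 - (φ (r x)).2‖ + ‖g q.1 (φ x).2 - (φ (r x)).2‖ := norm_sub_le _ _
        _ ≤ δ / 4 + δ / 4 := by gcongr
    refine h5.trans (le_of_eq ?_)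
    simp only [idInv, NNReal.coe_one]
    push_cast
    ring
  obtain ⟨v, hv, hgv⟩ := hs hmem
  have h5 := hNM (⟨h1, hball hv⟩ : (q.1, v) ∈ N ×ˢ M)
  refine ⟨φ.symm (q.1, v), h5.1.1, ?_, ?_⟩
  · rw [← hA.fst φ hφ _ (φ.map_target h5.2), φ.right_inv h5.2]
  · obtain ⟨h6, h7, h8, -⟩ := hW1 _ h5.1.2
    apply φ.injOn h7 h3
    refine Prod.ext ?_ hgv
    rw [hA.fst φ hφ _ h7, hA.fst φ hφ _ h3, h8, hq]

/-- Near the central fibre, `x ∈ Y ↔ r x ∈ Y`. -/
lemma Good.mem_iff (hA : Atlas π b₀ Y 𝒞) (hπ : Continuous π) (hY : IsClosed Y) {r : E → E} {e : E}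
    (he : π e = b₀) (h : Good π b₀ Y 𝒞 r e) : ∀ᶠ x in 𝓝 e, (x ∈ Y ↔ r x ∈ Y) := by
  have hre : r e = e := h.eq he
  by_cases heY : e ∈ Y
  · obtain ⟨φ, hφ, W, hWo, heW, hW1, hW2⟩ := h.exists_nhd hA he
    have heφ := (hW1 e heW).1
    rcases hA.Ysub φ hφ with hno | hiff
    · exact absurd heY (hno e heφ)
    have h0 : (φ e).2 = 0 := (hiff e heφ).mp heY
    -- the point `y = φ.symm (π x, 0)`
    have hφe : φ e = (π e, 0) := by rw [← h0, ← hA.fst φ hφ e heφ]
    have hc : ContinuousAt (fun x => φ.symm (π x, (0 : V))) e := by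
      have h1 : ContinuousAt (fun x => ((π x, (0 : V)) : B × V)) e :=
        hπ.continuousAt.prodMk continuousAt_const
      have h2 : ContinuousAt φ.symm (π e, (0 : V)) := by
        rw [← hφe]; exact φ.continuousAt_symm (φ.map_source heφ)
      exact ContinuousAt.comp (g := φ.symm) (f := fun x => ((π x, (0 : V)) : B × V)) h2 h1
    have hce : φ.symm (π e, (0 : V)) = e := by rw [← hφe]; exact φ.left_inv heφ
    have hyW : ∀ᶠ x in 𝓝 e, φ.symm (π x, (0 : V)) ∈ W := by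
      have := hc.tendsto
      rw [hce] at this
      exact this.eventually (hWo.mem_nhds heW)
    have hyt : ∀ᶠ x in 𝓝 e, ((π x, (0 : V)) : B × V) ∈ φ.target := by
      have h1 : ContinuousAt (fun x => ((π x, (0 : V)) : B × V)) e :=
        hπ.continuousAt.prodMk continuousAt_const
      have h2 : ((π e, (0 : V)) : B × V) ∈ φ.target := by rw [← hφe]; exact φ.map_source heφ
      exact h1.eventually (φ.open_target.mem_nhds h2)
    have hys : ∀ᶠ x in 𝓝 e, φ.symm (π x, (0 : V)) ∈ Y → r (φ.symm (π x, (0 : V))) ∈ Y := by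
      have := hc.tendsto
      rw [hce] at this
      exact this.eventually h.sub
    filter_upwards [hWo.mem_nhds heW, hyW, hyt, hys, h.sub] with x hx hy hyt hys hsub
    refine ⟨hsub, fun hrx => ?_⟩
    obtain ⟨h1, h2, h3, -⟩ := hW1 x hx
    obtain ⟨h1', h2', h3', -⟩ := hW1 _ hy
    have hyφ : φ (φ.symm (π x, (0 : V))) = (π x, 0) := φ.right_inv hyt
    have hyY : φ.symm (π x, (0 : V)) ∈ Y := by rw [hiff _ h1', hyφ]
    have h4 : (φ (r (φ.symm (π x, (0 : V))))).2 = 0 := (hiff _ h2').mp (hys hyY)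
    have h5 : (φ (r x)).2 = 0 := (hiff _ h2).mp hrx
    have h6 := hW2 x hx _ hy (by rw [← hA.fst φ hφ _ h1', hyφ])
    rw [h4, h5, hyφ] at h6
    simp only [sub_zero, sub_self, zero_sub, norm_neg] at h6
    have h7 : ‖(φ x).2‖ = 0 := by
      have := norm_nonneg (φ x).2
      linarith
    rw [hiff x h1]
    exact norm_eq_zero.mp h7
  · have h1 : ∀ᶠ x in 𝓝 e, x ∉ Y := hY.isOpen_compl.mem_nhds heY
    have h2 : ∀ᶠ x in 𝓝 e, r x ∉ Y := by
      have := h.cont.self_of_nhds.tendsto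
      rw [hre] at this
      exact this.eventually h1
    filter_upwards [h1, h2] with x h1 h2
    exact ⟨fun h => absurd h h1, fun h => absurd h h2⟩

/-- **Local triviality.**  A continuous closed map `π : E → B` with compact fibre over `b₀` and with
charts over `B` near that fibre, whose transition maps are strictly differentiable along the fibres at
the points of the fibre, is trivial over a neighbourhood of `b₀`; the trivialisation can be chosen to
preserve a closed set `Y` which is the zero set of the fibre coordinate in the charts meeting it, and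
to be the identity on the fibre over `b₀`. -/
theorem exists_trivialization [T2Space E] [ProperSpace V] (hA : Atlas π b₀ Y 𝒞)
    (hπ : Continuous π) (hcl : IsClosedMap π) (hc : IsCompact (π ⁻¹' {b₀})) (hY : IsClosed Y) :
    ∃ U : Set B, IsOpen U ∧ b₀ ∈ U ∧ ∃ h : ↥(π ⁻¹' U) ≃ₜ ↥U × ↥(π ⁻¹' {b₀}),
      (∀ z : ↥(π ⁻¹' U), ((h z).1 : B) = π z) ∧
      (∀ z : ↥(π ⁻¹' U), (z : E) ∈ Y ↔ ((h z).2 : E) ∈ Y) ∧
      ∀ z : ↥(π ⁻¹' U), π z = b₀ → ((h z).2 : E) = z := by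
  obtain ⟨r, hr⟩ := exists_good hA hπ hc
  have hcomap : comap π (𝓝 b₀) = 𝓝ˢ (π ⁻¹' {b₀}) := hcl.comap_nhds_eq hπ b₀
  -- properties near the fibre
  have hP : ∀ᶠ x in 𝓝ˢ (π ⁻¹' {b₀}), (π (r x) = b₀ ∧ ContinuousAt r x ∧ (x ∈ Y ↔ r x ∈ Y) ∧
      (π x = b₀ → r x = x)) ∧
      ∀ O ∈ 𝓝 x, ∀ᶠ q : B × E in 𝓝 (π x, r x), π q.2 = b₀ → ∃ y ∈ O, π y = q.1 ∧ r y = q.2 := by
    rw [eventually_nhdsSet_iff_forall]
    intro e he
    have hG := hr e he
    filter_upwards [hG.fib, hG.cont, hG.mem_iff hA hπ hY he, hG.id, hG.open_near hA he] with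
      x h1 h2 h3 h4 h5
    exact ⟨⟨h1, h2, h3, h4⟩, h5⟩
  rw [← hcomap] at hP
  obtain ⟨U₁, hU₁, hP⟩ := mem_comap.mp hP
  -- injectivity
  have hQ : ∀ᶠ p in 𝓝ˢ ((π ⁻¹' {b₀}) ×ˢ (π ⁻¹' {b₀})), π p.1 = π p.2 → r p.1 = r p.2 → p.1 = p.2 := by
    rw [eventually_nhdsSet_iff_forall]
    rintro ⟨e, e'⟩ ⟨he, he'⟩
    by_cases hee : e = e'
    · subst hee
      exact (hr e he).inj hA he
    · have h1 : Tendsto (fun p : E × E => (r p.1, r p.2)) (𝓝 (e, e')) (𝓝 (e, e')) := by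
        have h2 := (hr e he).cont.self_of_nhds.tendsto
        have h3 := (hr e' he').cont.self_of_nhds.tendsto
        rw [(hr e he).eq he] at h2
        rw [(hr e' he').eq he'] at h3
        exact (h2.comp (continuous_fst.tendsto (e, e'))).prodMk_nhds
          (h3.comp (continuous_snd.tendsto (e, e')))
      have h4 : ∀ᶠ p : E × E in 𝓝 (e, e'), p.1 ≠ p.2 :=
        isClosed_diagonal.isOpen_compl.mem_nhds hee
      filter_upwards [h1.eventually h4] with p hp _ h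
      exact absurd h hp
  rw [hc.nhdsSet_prod_eq hc, ← hcomap] at hQ
  obtain ⟨t₁, ht₁, t₂, ht₂, hQ⟩ := mem_prod_iff.mp hQ
  obtain ⟨U₂, hU₂, hQ₁⟩ := mem_comap.mp ht₁
  obtain ⟨U₃, hU₃, hQ₂⟩ := mem_comap.mp ht₂
  -- surjectivity
  have hS : ∀ᶠ q in 𝓝ˢ (({b₀} : Set B) ×ˢ (π ⁻¹' {b₀})), π q.2 = b₀ → ∃ y, π y = q.1 ∧ r y = q.2 := by
    rw [eventually_nhdsSet_iff_forall]
    rintro ⟨b, e⟩ ⟨hb, he⟩
    rw [mem_singleton_iff] at hb
    subst hb
    have h1 := ((hr e he).open_near hA he).self_of_nhds univ univ_mem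
    rw [show π e = b from he, (hr e he).eq he] at h1
    filter_upwards [h1] with q hq hq'
    obtain ⟨y, -, hy⟩ := hq hq'
    exact ⟨y, hy⟩
  rw [isCompact_singleton.nhdsSet_prod_eq hc, nhdsSet_singleton] at hS
  obtain ⟨U₄, hU₄, t₄, ht₄, hS⟩ := mem_prod_iff.mp hS
  have ht₄' : π ⁻¹' {b₀} ⊆ t₄ := subset_of_mem_nhdsSet ht₄
  -- the neighbourhood
  obtain ⟨U, hUs, hUo, hbU⟩ := mem_nhds_iff.mp
    (inter_mem (inter_mem hU₁ hU₂) (inter_mem hU₃ hU₄))
  refine ⟨U, hUo, hbU, ?_⟩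
  have hPU : ∀ x : ↥(π ⁻¹' U), (π (r x) = b₀ ∧ ContinuousAt r (x : E) ∧ ((x : E) ∈ Y ↔ r x ∈ Y) ∧
      (π x = b₀ → r x = x)) ∧
      ∀ O ∈ 𝓝 (x : E), ∀ᶠ q : B × E in 𝓝 (π x, r x), π q.2 = b₀ →
        ∃ y ∈ O, π y = q.1 ∧ r y = q.2 :=
    fun x => hP (hUs x.2).1.1
  let H : ↥(π ⁻¹' U) → ↥U × ↥(π ⁻¹' {b₀}) := fun x => (⟨π x, x.2⟩, ⟨r x, (hPU x).1.1⟩)
  have hHc : Continuous H := by
    refine Continuous.prodMk ?_ ?_
    · exact (hπ.comp continuous_subtype_val).subtype_mk _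
    · refine Continuous.subtype_mk ?_ _
      rw [continuous_iff_continuousAt]
      intro x
      exact ContinuousAt.comp (g := r) (hPU x).1.2.1 continuousAt_subtype_val
  have hHi : Function.Injective H := by
    intro x y hxy
    have h1 : π x = π y := congrArg (fun q => (q.1 : B)) hxy
    have h2 : r x = r y := congrArg (fun q => (q.2 : E)) hxy
    have h3 := hQ (⟨hQ₁ (hUs x.2).1.2, hQ₂ (hUs y.2).2.1⟩ : ((x : E), (y : E)) ∈ t₁ ×ˢ t₂) h1 h2
    exact Subtype.ext h3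
  have hHs : Function.Surjective H := by
    rintro ⟨⟨b, hb⟩, ⟨e, he⟩⟩
    obtain ⟨y, hy1, hy2⟩ := hS (⟨(hUs hb).2.2, ht₄' he⟩ : (b, e) ∈ U₄ ×ˢ t₄) he
    exact ⟨⟨y, show π y ∈ U by rw [hy1]; exact hb⟩, Prod.ext (Subtype.ext hy1) (Subtype.ext hy2)⟩
  have hHo : IsOpenMap H := by
    rw [isOpenMap_iff_nhds_le]
    intro x S hS'
    rw [Filter.mem_map, mem_nhds_subtype] at hS'
    obtain ⟨O, hO, hOS⟩ := hS'
    have h1 := (hPU x).2 (O ∩ π ⁻¹' U) (inter_mem hO (hπ.continuousAt (hUo.mem_nhds x.2)))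
    have h2 : Tendsto (fun q : ↥U × ↥(π ⁻¹' {b₀}) => ((q.1 : B), (q.2 : E))) (𝓝 (H x))
        (𝓝 (π x, r x)) := by
      have : Continuous (fun q : ↥U × ↥(π ⁻¹' {b₀}) => ((q.1 : B), (q.2 : E))) := by fun_prop
      exact this.continuousAt
    filter_upwards [h2.eventually h1] with q hq
    obtain ⟨y, hy, hy1, hy2⟩ := hq q.2.2
    have h3 : H ⟨y, hy.2⟩ = q := Prod.ext (Subtype.ext hy1) (Subtype.ext hy2)
    rw [← h3]
    exact hOS (show (y : E) ∈ O from hy.1)
  refine ⟨(Equiv.ofBijective H ⟨hHi, hHs⟩).toHomeomorphOfContinuousOpen hHc hHo, fun z => rfl,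
    fun z => (hPU z).1.2.2.1, fun z hz => (hPU z).1.2.2.2 hz⟩

end

end Groth.Agent.An.H554.LocTriv
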