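import Groth.Agent.An.H554.LocTriv
import Mathlib.Analysis.Asymptotics.Defs
import Mathlib.Analysis.Complex.Basic
import Mathlib.Analysis.Normed.Operator.Mul

/-!
# Local triviality: form with open embeddings and little-o conditions

`exists_trivialization_of_isLittleO`: the theorem `LocTriv.exists_trivialization` for complex fibre
coordinates given as total functions `t i : E → ℂ` such that `(p, t i)` is an open embedding of `W i` in
`T × ℂ`, the compatibility of the charts being a little-o condition along the fibres.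
-/

set_option autoImplicit false

open Filter Topology Set Metric Asymptotics

namespace Groth.Agent.An.H554.LocTriv2

open Groth.Agent.An.H554.LocTriv

variable {E T : Type*} [TopologicalSpace E] [TopologicalSpace T]

/-- The filter of pairs of points near `x` in the same fibre of `p`. -/
def Fil (p : E → T) (x : E) : Filter (E × E) := (𝓝 x ×ˢ 𝓝 x) ⊓ 𝓟 {q : E × E | p q.1 = p q.2}

/-- The chart defined by an open embedding `z ↦ (p z, t z)` of an open set `W`. -/
noncomputable def chart [Nonempty E] (p : E → T) (W : Set E) (hW : IsOpen W) (t : E → ℂ)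
    (h : IsOpenEmbedding (fun z : W => ((p z, t z) : T × ℂ))) : OpenPartialHomeomorph E (T × ℂ) :=
  OpenPartialHomeomorph.ofContinuousOpenRestrict
    (Set.InjOn.toPartialEquiv (fun z => ((p z, t z) : T × ℂ)) W
      (Set.injOn_iff_injective.mpr h.injective))
    (continuousOn_iff_continuous_domRestrict.mpr h.continuous) h.isOpenMap hW

@[simp] lemma chart_apply [Nonempty E] (p : E → T) (W : Set E) (hW : IsOpen W) (t : E → ℂ)
    (h : IsOpenEmbedding (fun z : W => ((p z, t z) : T × ℂ))) (z : E) :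
    chart p W hW t h z = (p z, t z) := rfl

@[simp] lemma chart_source [Nonempty E] (p : E → T) (W : Set E) (hW : IsOpen W) (t : E → ℂ)
    (h : IsOpenEmbedding (fun z : W => ((p z, t z) : T × ℂ))) : (chart p W hW t h).source = W := rfl

/-- Local triviality of a closed map with compact fibre over `s`, with complex fibre coordinates. -/
theorem exists_trivialization_of_isLittleO [T2Space E] (p : E → T) (hp : Continuous p)
    (hcl : IsClosedMap p) (s : T) (hcomp : IsCompact (p ⁻¹' {s})) {ι : Type*} (W : ι → Set E)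
    (hW : ∀ i, IsOpen (W i)) (t : ι → E → ℂ)
    (hemb : ∀ i, IsOpenEmbedding (fun z : W i => ((p z, t i z) : T × ℂ)))
    (hcompat : ∀ i j x, p x = s → x ∈ W i → x ∈ W j → ∃ c : ℂ,
      (fun q : E × E => (t j q.1 - t j q.2) - c * (t i q.1 - t i q.2)) =o[Fil p x]
        (fun q => t i q.1 - t i q.2))
    (Y : Set E) (hY : IsClosed Y)
    (hY₁ : ∀ x, p x = s → x ∈ Y → ∃ i, x ∈ W i ∧ ∀ z ∈ W i, (z ∈ Y ↔ t i z = 0))
    (hY₂ : ∀ x, p x = s → x ∉ Y → ∃ i, x ∈ W i ∧ Disjoint (W i) Y) :
    ∃ V : Set T, IsOpen V ∧ s ∈ V ∧ ∃ e : ↥(p ⁻¹' V) ≃ₜ ↥V × ↥(p ⁻¹' {s}),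
      (∀ z : ↥(p ⁻¹' V), ((e z).1 : T) = p z) ∧
      (∀ z : ↥(p ⁻¹' V), (z : E) ∈ Y ↔ ((e z).2 : E) ∈ Y) ∧
      ∀ z : ↥(p ⁻¹' V), p z = s → ((e z).2 : E) = z := by
  rcases isEmpty_or_nonempty E with hE | hE
  · refine ⟨univ, isOpen_univ, mem_univ _, ⟨Equiv.equivOfIsEmpty _ _, ?_, ?_⟩, ?_, ?_, ?_⟩
    · exact continuous_of_discreteTopology
    · exact continuous_of_discreteTopology
    · exact fun z => (hE.false z).elim
    · exact fun z => (hE.false z).elim
    · exact fun z => (hE.false z).elim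
  let 𝒞 : Set (OpenPartialHomeomorph E (T × ℂ)) :=
    {φ | ∃ i, ((∀ z ∈ W i, (z ∈ Y ↔ t i z = 0)) ∨ Disjoint (W i) Y) ∧
      φ = chart p (W i) (hW i) (t i) (hemb i)}
  have hA : Atlas p s Y 𝒞 := by
    refine ⟨?_, ?_, ?_, ?_⟩
    · rintro _ ⟨i, -, rfl⟩ x -
      rfl
    · intro e he
      by_cases heY : e ∈ Y
      · obtain ⟨i, hi, hiY⟩ := hY₁ e he heY
        exact ⟨_, ⟨i, Or.inl hiY, rfl⟩, hi⟩
      · obtain ⟨i, hi, hiY⟩ := hY₂ e he heY
        exact ⟨_, ⟨i, Or.inr hiY, rfl⟩, hi⟩
    · rintro _ ⟨i, hi, rfl⟩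
      rcases hi with hi | hi
      · exact Or.inr fun x hx => hi x hx
      · exact Or.inl fun x hx hxY => Set.disjoint_left.mp hi hx hxY
    · rintro _ ⟨i, -, rfl⟩ _ ⟨j, -, rfl⟩ e he hei hej
      obtain ⟨c, hc⟩ := hcompat i j e he hei hej
      refine ⟨ContinuousLinearMap.mul ℝ ℂ c, fun ε hε => ?_⟩
      have h1 := hc.def hε
      rw [Fil, eventually_inf_principal, ← nhds_prod_eq] at h1
      filter_upwards [h1] with q hq hq'
      have := hq hq'
      simpa using this
  exact exists_trivialization hA hp hcl hcomp hY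

end Groth.Agent.An.H554.LocTriv2
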